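import Mathlib.CategoryTheory.Adjunction.Reflective
import Mathlib.CategoryTheory.Sites.SheafOfTypes
import Mathlib.CategoryTheory.Sites.Canonical
import Mathlib.CategoryTheory.ObjectProperty.FullSubcategory
import Mathlib.CategoryTheory.ObjectProperty.ClosedUnderIsomorphisms
import Mathlib.CategoryTheory.Limits.Preserves.Finite
import Mathlib.CategoryTheory.Limits.Preserves.Shapes.Pullbacks
import Mathlib.CategoryTheory.Limits.Shapes.Diagonal
import Mathlib.CategoryTheory.Limits.FunctorCategory.Shapes.Pullbacks
import Mathlib.CategoryTheory.Limits.Types.Pullbacks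

set_option autoImplicit false

open CategoryTheory CategoryTheory.Limits Opposite

namespace Groth.Agent.LexTopology

universe u

variable {C : Type u} [SmallCategory C] (P : ObjectProperty (Cᵒᵖ ⥤ Type u)) [Reflective P.ι]


lemma isSheafFor_iff_bijective {Z : Cᵒᵖ ⥤ Type u} {X : C} (S : Sieve X) :
    Presieve.IsSheafFor Z (S : Presieve X) ↔
      Function.Bijective (fun g : yoneda.obj X ⟶ Z => S.functorInclusion ≫ g) := by
  rw [Presieve.isSheafFor_iff_yonedaSheafCondition, Function.bijective_iff_existsUnique]
  rfl

lemma isIso_map_iff {X : C} (S : Sieve X) :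
    IsIso ((reflector P.ι).map S.functorInclusion) ↔
      ∀ Z : Cᵒᵖ ⥤ Type u, P Z → Presieve.IsSheafFor Z (S : Presieve X) := by
  let adj := reflectorAdjunction P.ι
  rw [isIso_iff_coyoneda_map_bijective]
  have key : ∀ T : P.FullSubcategory,
      Function.Bijective (fun x : (reflector P.ι).obj (yoneda.obj X) ⟶ T => (reflector P.ι).map S.functorInclusion ≫ x) ↔
      Function.Bijective (fun g : yoneda.obj X ⟶ T.obj => S.functorInclusion ≫ g) := by
    intro T
    have h : (fun g : yoneda.obj X ⟶ T.obj => S.functorInclusion ≫ g) ∘ (adj.homEquiv _ T) =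
        (adj.homEquiv _ T) ∘
          (fun x : (reflector P.ι).obj (yoneda.obj X) ⟶ T => (reflector P.ι).map S.functorInclusion ≫ x) :=
      funext fun x => (adj.homEquiv_naturality_left S.functorInclusion x).symm
    rw [← (adj.homEquiv (yoneda.obj X) T).bijective.of_comp_iff, h,
      (adj.homEquiv S.functor T).bijective.of_comp_iff']
  constructor
  · intro h Z hZ
    exact (isSheafFor_iff_bijective S).2 ((key ⟨Z, hZ⟩).1 (h _))
  · intro h T
    exact (key T).2 ((isSheafFor_iff_bijective S).1 (h _ T.property))

variable [PreservesFiniteLimits (reflector P.ι)]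

/-- the sieve of restrictions of `b` which lift along `m` -/
def liftSieve {A B : Cᵒᵖ ⥤ Type u} (m : A ⟶ B) {X : C} (b : B.obj (op X)) : Sieve X where
  arrows Y f := ∃ a : A.obj (op Y), m.app _ a = B.map f.op b
  downward_closed := by
    rintro Y Z f ⟨a, ha⟩ g
    refine ⟨A.map g.op a, ?_⟩
    rw [NatTrans.naturality_apply m g.op a, ha, op_comp, Functor.map_comp]
    rfl

lemma isIso_map_liftSieve {A B : Cᵒᵖ ⥤ Type u} (m : A ⟶ B)
    (hm : ∀ U, Function.Injective (m.app U)) (hLm : IsIso ((reflector P.ι).map m)) {X : C}
    (b : B.obj (op X)) : IsIso ((reflector P.ι).map (liftSieve m b).functorInclusion) := by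
  let t : (liftSieve m b).functor ⟶ A :=
    { app := fun U => ↾fun g => g.2.choose
      naturality := fun U V h => by
        ext g
        apply hm
        refine Eq.trans (((liftSieve m b).functor.map h g).2.choose_spec) ?_
        show B.map (h.unop ≫ g.1).op b = m.app V (A.map h g.2.choose)
        rw [NatTrans.naturality_apply m h g.2.choose, g.2.choose_spec, op_comp, Functor.map_comp]
        rfl }
  let x : yoneda.obj X ⟶ B := yonedaEquiv.symm b
  have hx : ∀ (U : Cᵒᵖ) (g : U.unop ⟶ X), x.app U g = B.map g.op b := fun U g => rfl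
  have hpb : IsPullback (liftSieve m b).functorInclusion t x m := by
    refine IsPullback.of_forall_isPullback_app fun U => ?_
    rw [Types.isPullback_iff]
    refine ⟨?_, ?_, ?_⟩
    · ext g
      exact g.2.choose_spec.symm
    · rintro g g' ⟨h, -⟩
      exact Subtype.ext h
    · intro g a h
      refine ⟨⟨g, a, h.symm.trans rfl⟩, rfl, hm _ ?_⟩
      exact (Exists.choose_spec (⟨a, h.symm.trans rfl⟩ :
        ∃ a' : A.obj (op U.unop), m.app _ a' = B.map g.op b)).trans h
  haveI : PreservesLimitsOfShape WalkingCospan (reflector P.ι) := PreservesFiniteLimits.preservesFiniteLimits _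
  exact (hpb.map (reflector P.ι)).isIso_fst_of_isIso hLm

theorem main [P.IsClosedUnderIsomorphisms] :
    ∃ J : GrothendieckTopology C,
      (∀ (X : C) (S : Sieve X), S ∈ J X ↔ IsIso ((reflector P.ι).map S.functorInclusion)) ∧
      ∀ F : Cᵒᵖ ⥤ Type u, P F ↔ Presieve.IsSheaf J F := by
  let J := Sheaf.finestTopology {Z : Cᵒᵖ ⥤ Type u | P Z}
  have hJ : ∀ (X : C) (S : Sieve X), S ∈ J X ↔ IsIso ((reflector P.ι).map S.functorInclusion) := by
    intro X S
    refine ⟨fun hS => ?_, fun hS => ?_⟩
    · exact (isIso_map_iff P S).2 fun Z hZ => Sheaf.sheaf_for_finestTopology _ hZ S hS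
    · refine Sheaf.mem_finestTopology_of_forall_isSheafFor fun Z hZ Y f => ?_
      refine (isIso_map_iff P _).1 ?_ Z hZ
      have e : S.pullback f = liftSieve S.functorInclusion (f : (yoneda.obj X).obj (op Y)) := by
        ext W g
        exact ⟨fun h => ⟨⟨g ≫ f, h⟩, rfl⟩, fun ⟨a, ha⟩ => by
          have ha' : a.1 = g ≫ f := ha
          show S.arrows (g ≫ f)
          rw [← ha']; exact a.2⟩
      rw [e]
      refine isIso_map_liftSieve P _ (fun U a a' h => Subtype.ext h) hS _
  refine ⟨J, hJ, fun F => ⟨fun hF => Sheaf.sheaf_for_finestTopology _ hF, fun hF => ?_⟩⟩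
  let adj := reflectorAdjunction P.ι
  let η : F ⟶ P.ι.obj ((reflector P.ι).obj F) := adj.unit.app F
  have hsh : Presieve.IsSheaf J (P.ι.obj ((reflector P.ι).obj F)) :=
    Sheaf.sheaf_for_finestTopology _ ((reflector P.ι).obj F).property
  have hLη : IsIso ((reflector P.ι).map η) := by
    have h := adj.left_triangle_components F
    haveI : IsIso (adj.counit.app ((reflector P.ι).obj F)) := inferInstance
    rw [show (reflector P.ι).map η = inv (adj.counit.app ((reflector P.ι).obj F)) from
      IsIso.eq_inv_of_inv_hom_id (f := adj.counit.app ((reflector P.ι).obj F)) h]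
    infer_instance
  haveI : PreservesLimitsOfShape WalkingCospan (reflector P.ι) := PreservesFiniteLimits.preservesFiniteLimits _
  have hinj : ∀ U, Function.Injective (η.app U) := by
    intro U a b hab
    obtain ⟨X⟩ := U
    let K := pullback η η
    let Δ : F ⟶ K := pullback.diagonal η
    have hΔ : IsIso ((reflector P.ι).map Δ) := by
      have hpb := ((IsPullback.of_hasPullback η η).map (reflector P.ι)).isIso_fst_of_isIso hLη
      have h1 : (reflector P.ι).map Δ ≫ (reflector P.ι).map (pullback.fst η η) = 𝟙 _ := by
        rw [← Functor.map_comp, pullback.diagonal_fst, CategoryTheory.Functor.map_id]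
      have : IsIso ((reflector P.ι).map Δ ≫ (reflector P.ι).map (pullback.fst η η)) := by rw [h1]; infer_instance
      exact IsIso.of_isIso_comp_right ((reflector P.ι).map Δ) ((reflector P.ι).map (pullback.fst η η))
    let k : yoneda.obj X ⟶ K := pullback.lift (yonedaEquiv.symm a) (yonedaEquiv.symm b) (by
      apply yonedaEquiv.injective
      rw [yonedaEquiv_comp, yonedaEquiv_comp, Equiv.apply_symm_apply, Equiv.apply_symm_apply]
      exact hab)
    have hS := isIso_map_liftSieve P Δ (fun U a a' h => by
      have := congrArg ((pullback.fst η η).app U) h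
      rwa [← CategoryTheory.comp_apply, ← CategoryTheory.comp_apply, ← NatTrans.comp_app,
        pullback.diagonal_fst] at this) hΔ (yonedaEquiv k)
    refine (hF _ ((hJ _ _).2 hS)).isSeparatedFor.ext fun Y f ⟨c, hc⟩ => ?_
    have h1 : (pullback.fst η η).app _ (yonedaEquiv k) = a := by
      rw [← yonedaEquiv_comp, pullback.lift_fst, Equiv.apply_symm_apply]
    have h2 : (pullback.snd η η).app _ (yonedaEquiv k) = b := by
      rw [← yonedaEquiv_comp, pullback.lift_snd, Equiv.apply_symm_apply]
    have e1 : c = F.map f.op a := by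
      have := congrArg ((pullback.fst η η).app _) hc
      rw [← CategoryTheory.comp_apply, ← NatTrans.comp_app, pullback.diagonal_fst,
        NatTrans.naturality_apply, h1] at this
      exact this
    have e2 : c = F.map f.op b := by
      have := congrArg ((pullback.snd η η).app _) hc
      rw [← CategoryTheory.comp_apply, ← NatTrans.comp_app, pullback.diagonal_snd,
        NatTrans.naturality_apply, h2] at this
      exact this
    exact e1.symm.trans e2
  have hsurj : ∀ U, Function.Surjective (η.app U) := by
    rintro ⟨X⟩ y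
    have hS := (hJ _ _).2 (isIso_map_liftSieve P η hinj hLη y)
    let x : Presieve.FamilyOfElements F (liftSieve η y).arrows := fun Y f hf => hf.choose
    have hx : x.Compatible := by
      intro Y₁ Y₂ Z g₁ g₂ f₁ f₂ h₁ h₂ hcomp
      apply hinj
      rw [NatTrans.naturality_apply η g₁.op, NatTrans.naturality_apply η g₂.op, h₁.choose_spec,
        h₂.choose_spec, ← CategoryTheory.comp_apply, ← CategoryTheory.comp_apply,
        ← Functor.map_comp, ← Functor.map_comp, ← op_comp, ← op_comp, hcomp]
    refine ⟨(hF _ hS).amalgamate x hx, ?_⟩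
    refine (hsh _ hS).isSeparatedFor.ext fun Y f hf => ?_
    rw [← NatTrans.naturality_apply η f.op, (hF _ hS).valid_glue hx f hf]
    exact hf.choose_spec
  have : IsIso η := by
    rw [NatTrans.isIso_iff_isIso_app]
    exact fun U => (CategoryTheory.isIso_iff_bijective _).2 ⟨hinj U, hsurj U⟩
  exact P.prop_of_iso (asIso η).symm ((reflector P.ι).obj F).property

end Groth.Agent.LexTopology
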